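/-
Elementary facts about fusion systems used by the factor system files: restriction, agreement of maps,
the joins of central and of normal subgroups.
-/
import Cfsg.Prelude.Def_FusionSystem

set_option autoImplicit false

namespace CfsgLib.FusionFactor

open Cfsg

variable {Ω : Type*} [Group Ω] {S : Subgroup Ω}

/-- A map of a fusion system restricts to any smaller source. -/
theorem restrict_mem (F : FusionSystem S) {P P' : Subgroup Ω} {φ : P →* Ω} (hφ : φ ∈ F.Hom P)
    (h : P' ≤ P) : φ.comp (Subgroup.inclusion h) ∈ F.Hom P' := by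
  have h1 : conjHom P' (1 : Ω) ∈ F.Hom P' :=
    F.conj_mem (h.trans (F.le_of_mem hφ).1) S.one_mem
  have hmem : ∀ x : P', conjHom P' (1 : Ω) x ∈ P := by
    intro x
    simpa [conjHom] using h x.2
  have h2 := F.comp_mem h1 hφ hmem
  convert h2 using 1
  ext x
  show φ _ = φ _
  congr 1
  apply Subtype.ext
  simp [conjHom]

/-- Two homomorphisms agreeing on elements of a subgroup have the same image of it. -/
theorem map_subgroupOf_congr {A R R' : Subgroup Ω} (hR : A ≤ R) (hR' : A ≤ R') (ψ : R →* Ω)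
    (ψ' : R' →* Ω) (h : ∀ (x : Ω) (hx : x ∈ A), ψ ⟨x, hR hx⟩ = ψ' ⟨x, hR' hx⟩) :
    (A.subgroupOf R).map ψ = (A.subgroupOf R').map ψ' := by
  ext y
  constructor
  · rintro ⟨⟨x, hxR⟩, hxA, rfl⟩
    exact ⟨⟨x, hR' hxA⟩, hxA, (h x hxA).symm⟩
  · rintro ⟨⟨x, hxR⟩, hxA, rfl⟩
    exact ⟨⟨x, hR hxA⟩, hxA, h x hxA⟩

/-- The join of two central subgroups is central. -/
theorem isCentral_sup (F : FusionSystem S) {A B : Subgroup Ω} (hA : F.IsCentral A)
    (hB : F.IsCentral B) : F.IsCentral (A ⊔ B) := by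
  refine ⟨sup_le hA.1 hB.1, fun P φ hφ => ?_⟩
  obtain ⟨ψ₁, hψ₁, h₁P, h₁A⟩ := hA.2 P φ hφ
  obtain ⟨ψ₂, hψ₂, h₂P, h₂B⟩ := hB.2 _ ψ₁ hψ₁
  have hle : P ⊔ (A ⊔ B) ≤ P ⊔ A ⊔ B := le_of_eq (sup_assoc P A B).symm
  refine ⟨ψ₂.comp (Subgroup.inclusion hle), restrict_mem F hψ₂ hle, fun x => ?_, ?_⟩
  · rw [← h₁P x, ← h₂P (Subgroup.inclusion le_sup_left x)]
    rfl
  · let f : ↥(A ⊔ B) →* Ω :=
      (ψ₂.comp (Subgroup.inclusion hle)).comp (Subgroup.inclusion le_sup_right)
    have hAB : A ⊔ B ≤ (f.eqLocus (A ⊔ B).subtype).map (A ⊔ B).subtype := by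
      refine sup_le ?_ ?_
      · intro x hx
        refine ⟨⟨x, Subgroup.mem_sup_left hx⟩, ?_, rfl⟩
        exact (h₂P (Subgroup.inclusion le_sup_right ⟨x, hx⟩)).trans (h₁A ⟨x, hx⟩)
      · intro x hx
        refine ⟨⟨x, Subgroup.mem_sup_right hx⟩, ?_, rfl⟩
        exact h₂B ⟨x, hx⟩
    intro x
    obtain ⟨y, hy, hyx⟩ := hAB x.2
    have : y = x := Subtype.ext hyx
    subst this
    exact hy

/-- The trivial subgroup is central. -/
theorem isCentral_bot (F : FusionSystem S) : F.IsCentral ⊥ := by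
  refine ⟨bot_le, fun P φ hφ => ?_⟩
  refine ⟨φ.comp (Subgroup.inclusion (le_of_eq (sup_bot_eq P))),
    restrict_mem F hφ (le_of_eq (sup_bot_eq P)), fun x => rfl, ?_⟩
  intro x
  have hx : x = 1 := Subtype.ext (Subgroup.mem_bot.mp x.2)
  subst hx
  simp

/-- The join of two normal subgroups is normal in the system. -/
theorem isNormal_sup (F : FusionSystem S) {A B : Subgroup Ω} (hA : F.IsNormal A)
    (hB : F.IsNormal B) : F.IsNormal (A ⊔ B) := by
  refine ⟨sup_le hA.1 hB.1, fun P φ hφ => ?_⟩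
  obtain ⟨ψ₁, hψ₁, h₁P, h₁A⟩ := hA.2 P φ hφ
  obtain ⟨ψ₂, hψ₂, h₂P, h₂B⟩ := hB.2 _ ψ₁ hψ₁
  have hle : P ⊔ (A ⊔ B) ≤ P ⊔ A ⊔ B := le_of_eq (sup_assoc P A B).symm
  refine ⟨ψ₂.comp (Subgroup.inclusion hle), restrict_mem F hψ₂ hle, fun x => ?_, ?_⟩
  · rw [← h₁P x, ← h₂P (Subgroup.inclusion le_sup_left x)]
    rfl
  · have hAR : A ≤ P ⊔ (A ⊔ B) := le_sup_left.trans le_sup_right
    have hBR : B ≤ P ⊔ (A ⊔ B) := le_sup_right.trans le_sup_right
    rw [Subgroup.subgroupOf_sup hAR hBR, Subgroup.map_sup]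
    congr 1
    · refine (map_subgroupOf_congr hAR le_sup_right _ ψ₁ fun x hx => ?_).trans h₁A
      rw [← h₂P (⟨x, Subgroup.mem_sup_right hx⟩ : ↥(P ⊔ A))]
      rfl
    · exact (map_subgroupOf_congr hBR le_sup_right _ ψ₂ fun x hx => rfl).trans h₂B

/-- The trivial subgroup is normal in the system. -/
theorem isNormal_bot (F : FusionSystem S) : F.IsNormal ⊥ := by
  refine ⟨bot_le, fun P φ hφ => ?_⟩
  refine ⟨φ.comp (Subgroup.inclusion (le_of_eq (sup_bot_eq P))),
    restrict_mem F hφ (le_of_eq (sup_bot_eq P)), fun x => rfl, ?_⟩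
  rw [Subgroup.bot_subgroupOf, Subgroup.map_bot]

/-- Subgroups of a finite subgroup form a finite set. -/
theorem finite_setOf_le (S : Subgroup Ω) [Finite S] : {Q : Subgroup Ω | Q ≤ S}.Finite := by
  have h : (Set.range fun Q : Subgroup S => Q.map S.subtype).Finite := Set.finite_range _
  refine h.subset ?_
  intro Q hQ
  exact ⟨Q.subgroupOf S, Subgroup.map_subgroupOf_eq_of_le hQ⟩

/-- A family of subgroups of a finite `S` containing `⊥` and closed under `⊔` contains its join. -/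
theorem sSup_mem_of_sup_mem [Finite S] (C : Set (Subgroup Ω)) (hC : ∀ Q ∈ C, Q ≤ S)
    (h0 : (⊥ : Subgroup Ω) ∈ C) (h2 : ∀ A ∈ C, ∀ B ∈ C, A ⊔ B ∈ C) : sSup C ∈ C := by
  have hfin : C.Finite := (finite_setOf_le S).subset hC
  have key : ∀ t : Set (Subgroup Ω), t.Finite → t ⊆ C → sSup t ∈ C := by
    intro t ht
    refine Set.Finite.induction_on t ht ?_ ?_
    · intro _
      simpa using h0
    · intro a t' _ _ ih hsub
      rw [sSup_insert]
      exact h2 a (hsub (Set.mem_insert _ _)) _ (ih ((Set.subset_insert _ _).trans hsub))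
  exact key C hfin subset_rfl

/-- The centre of a fusion system over a finite subgroup is central. -/
theorem isCentral_center [Finite S] (F : FusionSystem S) : F.IsCentral F.center :=
  sSup_mem_of_sup_mem {Q | F.IsCentral Q} (fun _ h => h.1) (isCentral_bot F)
    (fun _ hA _ hB => isCentral_sup F hA hB)

/-- The core of a fusion system over a finite subgroup is normal. -/
theorem isNormal_core [Finite S] (F : FusionSystem S) : F.IsNormal F.core :=
  sSup_mem_of_sup_mem {Q | F.IsNormal Q} (fun _ h => h.1) (isNormal_bot F)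
    (fun _ hA _ hB => isNormal_sup F hA hB)

end CfsgLib.FusionFactor
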