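/-
Construction of factor systems and of direct products of fusion systems.
-/
import Cfsg.Prelude.Def_FusionComponents
import Cfsg.Agent.FusionFactor.Elementary

set_option autoImplicit false

namespace CfsgLib.FusionFactor

open Cfsg Cfsg.FusionSystem

section factor

variable {Ω : Type*} [Group Ω] {S : Subgroup Ω} {Ω' : Type*} [Group Ω']

/-- The preimage along a map out of `S` lies in `S`. -/
theorem preimageAlong_le (α : S →* Ω') (P' : Subgroup Ω') : preimageAlong α P' ≤ S :=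
  Subgroup.map_subtype_le _

/-- Membership in a preimage. -/
theorem mem_preimageAlong {α : S →* Ω'} {P' : Subgroup Ω'} {x : Ω} :
    x ∈ preimageAlong α P' ↔ ∃ h : x ∈ S, α ⟨x, h⟩ ∈ P' := by
  constructor
  · rintro ⟨⟨y, hy⟩, hyP, rfl⟩
    exact ⟨hy, hyP⟩
  · rintro ⟨h, hP⟩
    exact ⟨⟨x, h⟩, hP, rfl⟩

/-- A map of the system permutes a strongly closed finite subgroup contained in its source. -/
theorem exists_eq_of_stronglyClosed (F : FusionSystem S) [Finite S] {T P : Subgroup Ω}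
    (hT : F.StronglyClosed T) {φ : P →* Ω} (hφ : φ ∈ F.Hom P) (hTP : T ≤ P) {y : Ω} (hy : y ∈ T) :
    ∃ x : P, (x : Ω) ∈ T ∧ φ x = y := by
  have : Finite T := Finite.of_injective _ (Subgroup.inclusion_injective hT.1)
  let f : T → T := fun t =>
    ⟨φ (Subgroup.inclusion hTP t), hT.2 T le_rfl _ (restrict_mem F hφ hTP) t⟩
  have hf : Function.Injective f := by
    intro a b hab
    exact Subgroup.inclusion_injective hTP (F.injective_of_mem hφ (congrArg Subtype.val hab))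
  obtain ⟨t, ht⟩ := (Finite.injective_iff_surjective.mp hf) ⟨y, hy⟩
  exact ⟨Subgroup.inclusion hTP t, t.2, congrArg Subtype.val ht⟩

/-- The maps of the factor system with source `P'`. -/
def factorHom (F : FusionSystem S) (θ : S →* Ω') (S' P' : Subgroup Ω') : Set (P' →* Ω') :=
  {φ' | P' ≤ S' ∧ ∃ φ ∈ F.Hom (preimageAlong θ P'), InducedAlong θ φ φ'}

/-- The factor system of `F` modulo the strongly closed subgroup `S₀`, read through `θ`. -/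
def factorSystem (F : FusionSystem S) [Finite S] (S₀ : Subgroup Ω) (hS₀ : F.StronglyClosed S₀)
    (θ : S →* Ω') (hker : ∀ s : S, θ s = 1 ↔ (s : Ω) ∈ S₀) (S' : Subgroup Ω')
    (hrange : θ.range = S') : FusionSystem S' where
  Hom P' := factorHom F θ S' P'
  le_of_mem := by
    rintro P' φ' ⟨hP', φ, hφ, hPS, hφS, hP'', hind⟩
    refine ⟨hP', fun y => ?_⟩
    obtain ⟨s, hs⟩ : (y : Ω') ∈ θ.range := hrange.symm ▸ hP' y.2
    have hsP : (s : Ω) ∈ preimageAlong θ P' := mem_preimageAlong.mpr ⟨s.2, by rw [hs]; exact y.2⟩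
    have h := hind ⟨s, hsP⟩
    have hy : (⟨θ ⟨s, hPS hsP⟩, hP'' ⟨s, hsP⟩⟩ : P') = y := Subtype.ext hs
    rw [hy] at h
    rw [h, ← hrange]
    exact ⟨_, rfl⟩
  injective_of_mem := by
    rintro P' φ' ⟨hP', φ, hφ, hPS, hφS, hP'', hind⟩
    rw [injective_iff_map_eq_one]
    intro y hy
    obtain ⟨s, hs⟩ : (y : Ω') ∈ θ.range := hrange.symm ▸ hP' y.2
    have hsP : (s : Ω) ∈ preimageAlong θ P' := mem_preimageAlong.mpr ⟨s.2, by rw [hs]; exact y.2⟩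
    have h := hind ⟨s, hsP⟩
    have hy' : (⟨θ ⟨s, hPS hsP⟩, hP'' ⟨s, hsP⟩⟩ : P') = y := Subtype.ext hs
    rw [hy', hy] at h
    have h0 : φ ⟨s, hsP⟩ ∈ S₀ := (hker _).mp h.symm
    have hT : S₀ ≤ preimageAlong θ P' := fun x hx =>
      mem_preimageAlong.mpr ⟨hS₀.1 hx, by rw [(hker _).mpr hx]; exact one_mem _⟩
    obtain ⟨x, hx, hxy⟩ := exists_eq_of_stronglyClosed F hS₀ hφ hT h0
    have : x = ⟨s, hsP⟩ := F.injective_of_mem hφ hxy
    subst this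
    apply Subtype.ext
    rw [← hs]
    exact (hker s).mpr hx
  conj_mem := by
    intro P' g hP' hg
    obtain ⟨s, rfl⟩ : g ∈ θ.range := hrange.symm ▸ hg
    refine ⟨hP', conjHom (preimageAlong θ P') s, F.conj_mem (preimageAlong_le θ P') s.2,
      preimageAlong_le θ P', fun x => ?_, fun x => (mem_preimageAlong.mp x.2).2, fun x => ?_⟩
    · show (s : Ω) * x * (s : Ω)⁻¹ ∈ S
      exact S.mul_mem (S.mul_mem s.2 (preimageAlong_le θ P' x.2)) (S.inv_mem s.2)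
    · show θ s * θ ⟨(x : Ω), _⟩ * (θ s)⁻¹ = θ _
      rw [← map_inv, ← map_mul, ← map_mul]
      rfl
  comp_mem := by
    rintro P' Q' φ' ψ' ⟨hP', φ, hφ, hPS, hφS, hP'', hind⟩ ⟨-, ψ, hψ, hQS, hψS, hQ'', hindψ⟩ h
    have hmem : ∀ x, φ x ∈ preimageAlong θ Q' := fun x =>
      mem_preimageAlong.mpr ⟨hφS x, by rw [← hind x]; exact h _⟩
    refine ⟨hP', ψ.comp (φ.codRestrict _ hmem), F.comp_mem hφ hψ hmem, hPS,
      fun x => hψS _, hP'', fun x => ?_⟩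
    show ψ' _ = θ _
    refine Eq.trans ?_ (hindψ ⟨φ x, hmem x⟩)
    congr 1
    exact Subtype.ext (hind x)
  inv_mem := by
    rintro P' φ' ⟨hP', φ, hφ, hPS, hφS, hP'', hind⟩
    obtain ⟨ψ, hψ, hψinv⟩ := F.inv_mem hφ
    have hT : S₀ ≤ preimageAlong θ P' := fun x hx =>
      mem_preimageAlong.mpr ⟨hS₀.1 hx, by rw [(hker _).mpr hx]; exact one_mem _⟩
    have hex : ∀ y : P', ∃ s : preimageAlong θ P', θ ⟨s, hPS s.2⟩ = y := by
      intro y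
      obtain ⟨s, hs⟩ : (y : Ω') ∈ θ.range := hrange.symm ▸ hP' y.2
      exact ⟨⟨s, mem_preimageAlong.mpr ⟨s.2, by rw [hs]; exact y.2⟩⟩, hs⟩
    have hval : ∀ (x : preimageAlong θ P') (y : P'), θ ⟨x, hPS x.2⟩ = y →
        φ' y = θ ⟨φ x, hφS x⟩ := fun x y hxy => by
      rw [← hind x]; congr 1; exact Subtype.ext hxy.symm
    have hinj' : Function.Injective φ' := by
      rw [injective_iff_map_eq_one]
      intro y hy
      obtain ⟨s, hs⟩ := hex y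
      have h0 : φ s ∈ S₀ := (hker _).mp ((hval s y hs).symm.trans hy)
      obtain ⟨x, hx, hxy⟩ := exists_eq_of_stronglyClosed F hS₀ hφ hT h0
      have : x = s := F.injective_of_mem hφ hxy
      subst this
      exact Subtype.ext (hs.symm.trans ((hker _).mpr hx))
    let e := MonoidHom.ofInjective hinj'
    refine ⟨P'.subtype.comp e.symm.toMonoidHom, ⟨?_, ?_⟩, ?_⟩
    · rintro _ ⟨y, rfl⟩
      obtain ⟨s, hs⟩ := hex y
      rw [hval s y hs, ← hrange]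
      exact ⟨_, rfl⟩
    · have hle : preimageAlong θ φ'.range ≤ φ.range := by
        intro z hz
        obtain ⟨hzS, y, hy⟩ := mem_preimageAlong.mp hz
        obtain ⟨s, hs⟩ := hex y
        rw [hval s y hs] at hy
        have h0 : z * (φ s)⁻¹ ∈ S₀ := by
          refine (hker (⟨z, hzS⟩ * ⟨φ s, hφS s⟩⁻¹)).mp ?_
          rw [map_mul, map_inv, hy, mul_inv_cancel]
        obtain ⟨x, hx, hxy⟩ := exists_eq_of_stronglyClosed F hS₀ hφ hT h0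
        exact ⟨x * s, by rw [map_mul, hxy, inv_mul_cancel_right]⟩
      refine ⟨ψ.comp (Subgroup.inclusion hle), restrict_mem F hψ hle, preimageAlong_le θ _,
        fun x => (F.le_of_mem hψ).2 _, fun x => (mem_preimageAlong.mp x.2).2, ?_⟩
      rintro ⟨z, hz⟩
      obtain ⟨x, hx⟩ := hle hz
      subst hx
      have h1 : ψ (Subgroup.inclusion hle ⟨φ x, hz⟩) = (x : Ω) := hψinv x
      have h2 : θ ⟨φ x, preimageAlong_le θ _ hz⟩ = φ' ⟨θ ⟨x, hPS x.2⟩, hP'' x⟩ := (hind x).symm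
      show ((e.symm ⟨θ ⟨φ x, _⟩, _⟩ : P') : Ω') = θ ⟨ψ _, _⟩
      have h3 : e.symm ⟨θ ⟨φ x, preimageAlong_le θ _ hz⟩, (mem_preimageAlong.mp hz).2⟩ =
          ⟨θ ⟨x, hPS x.2⟩, hP'' x⟩ := by
        rw [MulEquiv.symm_apply_eq]
        exact Subtype.ext h2
      rw [h3]
      exact congrArg θ (Subtype.ext h1.symm)
    · intro y
      exact congrArg Subtype.val (e.symm_apply_apply y)

/-- `factorSystem` is the factor system. -/
theorem isFactorSystem_factorSystem (F : FusionSystem S) [Finite S] (S₀ : Subgroup Ω)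
    (hS₀ : F.StronglyClosed S₀) (θ : S →* Ω') (hker : ∀ s : S, θ s = 1 ↔ (s : Ω) ∈ S₀)
    (S' : Subgroup Ω') (hrange : θ.range = S') :
    F.IsFactorSystem S₀ θ (factorSystem F S₀ hS₀ θ hker S' hrange) :=
  ⟨hS₀.1, hker, hrange, fun _ _ => Iff.rfl⟩

/-- The factor system on the quotient group. -/
theorem exists_factorSystem_quotient (F : FusionSystem S) [Finite S] (S₀ : Subgroup Ω)
    (hS₀ : F.StronglyClosed S₀) [(S₀.subgroupOf S).Normal] :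
    ∃ E : FusionSystem (⊤ : Subgroup (S ⧸ S₀.subgroupOf S)),
      F.IsFactorSystem S₀ (QuotientGroup.mk' (S₀.subgroupOf S)) E :=
  ⟨_, isFactorSystem_factorSystem F S₀ hS₀ _
    (fun s => by rw [QuotientGroup.mk'_apply, QuotientGroup.eq_one_iff]; exact Iff.rfl) ⊤
    (MonoidHom.range_eq_top.mpr (QuotientGroup.mk'_surjective _))⟩

end factor

section product

variable {Ω₁ Ω₂ : Type*} [Group Ω₁] [Group Ω₂] {S₁ : Subgroup Ω₁} {S₂ : Subgroup Ω₂}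

/-- The maps of the product system. -/
def prodHom (F₁ : FusionSystem S₁) (F₂ : FusionSystem S₂) (P : Subgroup (Ω₁ × Ω₂)) :
    Set (P →* Ω₁ × Ω₂) :=
  {φ | P ≤ S₁.prod S₂ ∧
      ∃ φ₁ ∈ F₁.Hom (P.map (MonoidHom.fst Ω₁ Ω₂)), ∃ φ₂ ∈ F₂.Hom (P.map (MonoidHom.snd Ω₁ Ω₂)),
        ∀ (x : P) (h₁ : (x : Ω₁ × Ω₂).1 ∈ P.map (MonoidHom.fst Ω₁ Ω₂))
          (h₂ : (x : Ω₁ × Ω₂).2 ∈ P.map (MonoidHom.snd Ω₁ Ω₂)),
          φ x = (φ₁ ⟨(x : Ω₁ × Ω₂).1, h₁⟩, φ₂ ⟨(x : Ω₁ × Ω₂).2, h₂⟩)}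

/-- The direct product of two fusion systems. -/
def productSystem (F₁ : FusionSystem S₁) (F₂ : FusionSystem S₂) :
    FusionSystem (S₁.prod S₂) where
  Hom P := prodHom F₁ F₂ P
  le_of_mem := by
    rintro P φ ⟨hP, φ₁, hφ₁, φ₂, hφ₂, hφ⟩
    refine ⟨hP, fun x => ?_⟩
    rw [hφ x ⟨x, x.2, rfl⟩ ⟨x, x.2, rfl⟩]
    exact ⟨(F₁.le_of_mem hφ₁).2 _, (F₂.le_of_mem hφ₂).2 _⟩
  injective_of_mem := by
    rintro P φ ⟨hP, φ₁, hφ₁, φ₂, hφ₂, hφ⟩ a b hab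
    rw [hφ a ⟨a, a.2, rfl⟩ ⟨a, a.2, rfl⟩, hφ b ⟨b, b.2, rfl⟩ ⟨b, b.2, rfl⟩] at hab
    have h1 := congrArg Subtype.val (F₁.injective_of_mem hφ₁ (congrArg Prod.fst hab))
    have h2 := congrArg Subtype.val (F₂.injective_of_mem hφ₂ (congrArg Prod.snd hab))
    exact Subtype.ext (Prod.ext h1 h2)
  conj_mem := by
    intro P g hP hg
    have h1 : P.map (MonoidHom.fst Ω₁ Ω₂) ≤ S₁ := by
      rintro _ ⟨x, hx, rfl⟩; exact (hP hx).1
    have h2 : P.map (MonoidHom.snd Ω₁ Ω₂) ≤ S₂ := by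
      rintro _ ⟨x, hx, rfl⟩; exact (hP hx).2
    exact ⟨hP, conjHom _ g.1, F₁.conj_mem h1 hg.1, conjHom _ g.2, F₂.conj_mem h2 hg.2,
      fun x _ _ => rfl⟩
  comp_mem := by
    rintro P Q φ ψ ⟨hP, φ₁, hφ₁, φ₂, hφ₂, hφ⟩ ⟨-, ψ₁, hψ₁, ψ₂, hψ₂, hψ⟩ h
    have m1 : ∀ y, φ₁ y ∈ Q.map (MonoidHom.fst Ω₁ Ω₂) := by
      rintro ⟨_, x, hx, rfl⟩
      exact ⟨φ ⟨x, hx⟩, h _, by rw [hφ ⟨x, hx⟩ ⟨x, hx, rfl⟩ ⟨x, hx, rfl⟩]; rfl⟩
    have m2 : ∀ y, φ₂ y ∈ Q.map (MonoidHom.snd Ω₁ Ω₂) := by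
      rintro ⟨_, x, hx, rfl⟩
      exact ⟨φ ⟨x, hx⟩, h _, by rw [hφ ⟨x, hx⟩ ⟨x, hx, rfl⟩ ⟨x, hx, rfl⟩]; rfl⟩
    refine ⟨hP, ψ₁.comp (φ₁.codRestrict _ m1), F₁.comp_mem hφ₁ hψ₁ m1,
      ψ₂.comp (φ₂.codRestrict _ m2), F₂.comp_mem hφ₂ hψ₂ m2, fun x h₁ h₂ => ?_⟩
    show ψ (φ.codRestrict Q h x) = _
    rw [hψ (φ.codRestrict Q h x) ⟨_, h x, rfl⟩ ⟨_, h x, rfl⟩]
    have e := hφ x h₁ h₂
    exact Prod.ext (congrArg ψ₁ (Subtype.ext (congrArg Prod.fst e)))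
      (congrArg ψ₂ (Subtype.ext (congrArg Prod.snd e)))
  inv_mem := by
    rintro P φ ⟨hP, φ₁, hφ₁, φ₂, hφ₂, hφ⟩
    obtain ⟨ψ₁, hψ₁, hi₁⟩ := F₁.inv_mem hφ₁
    obtain ⟨ψ₂, hψ₂, hi₂⟩ := F₂.inv_mem hφ₂
    have l1 : φ.range.map (MonoidHom.fst Ω₁ Ω₂) ≤ φ₁.range := by
      rintro _ ⟨_, ⟨x, rfl⟩, rfl⟩
      exact ⟨⟨_, x, x.2, rfl⟩, by rw [hφ x ⟨x, x.2, rfl⟩ ⟨x, x.2, rfl⟩]; rfl⟩
    have l2 : φ.range.map (MonoidHom.snd Ω₁ Ω₂) ≤ φ₂.range := by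
      rintro _ ⟨_, ⟨x, rfl⟩, rfl⟩
      exact ⟨⟨_, x, x.2, rfl⟩, by rw [hφ x ⟨x, x.2, rfl⟩ ⟨x, x.2, rfl⟩]; rfl⟩
    have hinj : Function.Injective φ := by
      intro a b hab
      rw [hφ a ⟨a, a.2, rfl⟩ ⟨a, a.2, rfl⟩, hφ b ⟨b, b.2, rfl⟩ ⟨b, b.2, rfl⟩] at hab
      have h1 := congrArg Subtype.val (F₁.injective_of_mem hφ₁ (congrArg Prod.fst hab))
      have h2 := congrArg Subtype.val (F₂.injective_of_mem hφ₂ (congrArg Prod.snd hab))
      exact Subtype.ext (Prod.ext h1 h2)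
    let e := MonoidHom.ofInjective hinj
    refine ⟨P.subtype.comp e.symm.toMonoidHom, ⟨?_, ψ₁.comp (Subgroup.inclusion l1),
      restrict_mem F₁ hψ₁ l1, ψ₂.comp (Subgroup.inclusion l2), restrict_mem F₂ hψ₂ l2, ?_⟩, ?_⟩
    · rintro _ ⟨x, rfl⟩
      rw [hφ x ⟨x, x.2, rfl⟩ ⟨x, x.2, rfl⟩]
      exact ⟨(F₁.le_of_mem hφ₁).2 _, (F₂.le_of_mem hφ₂).2 _⟩
    · rintro ⟨_, x, rfl⟩ h₁ h₂
      have he : e.symm ⟨φ x, x, rfl⟩ = x := e.symm_apply_apply x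
      show ((e.symm ⟨φ x, _⟩ : P) : Ω₁ × Ω₂) = _
      rw [he]
      have k := hφ x ⟨x, x.2, rfl⟩ ⟨x, x.2, rfl⟩
      refine Prod.ext ?_ ?_
      · refine ((hi₁ ⟨_, x, x.2, rfl⟩).symm.trans ?_)
        exact congrArg ψ₁ (Subtype.ext (congrArg Prod.fst k).symm)
      · refine ((hi₂ ⟨_, x, x.2, rfl⟩).symm.trans ?_)
        exact congrArg ψ₂ (Subtype.ext (congrArg Prod.snd k).symm)
    · intro x
      exact congrArg Subtype.val (e.symm_apply_apply x)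

/-- `productSystem` is the product system. -/
theorem isProductSystem_productSystem (F₁ : FusionSystem S₁) (F₂ : FusionSystem S₂) :
    IsProductSystem F₁ F₂ (productSystem F₁ F₂) :=
  fun _ _ => Iff.rfl

end product

end CfsgLib.FusionFactor
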