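/-
For a strongly closed `T` in a saturated system every map extends, modulo `T`, to the product of
its source with `T`; hence the projection onto a factor system is a surjective morphism.
-/
import Cfsg.Agent.FusionFactor.Construct
import Cfsg.Agent.Fusion.Saturation

set_option autoImplicit false

namespace CfsgLib.FusionFactor

open Cfsg Cfsg.FusionSystem CfsgLib.Fusion

open scoped Pointwise in
/-- If `R` is a Sylow subgroup, `K` normal and `X` a `p`-subgroup of `RK`, some element of `K`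
conjugates `X` into `R`. -/
theorem exists_mem_normal_conj_le {A : Type*} [Group A] [Finite A] {p : ℕ} [Fact p.Prime]
    (R : Sylow p A) (K : Subgroup A) [K.Normal] {X : Subgroup A} (hX : IsPGroup p X)
    (hle : X ≤ (R : Subgroup A) ⊔ K) : ∃ k ∈ K, ∀ x ∈ X, k * x * k⁻¹ ∈ (R : Subgroup A) := by
  set M := (R : Subgroup A) ⊔ K with hM
  obtain ⟨m, hm⟩ := exists_conj_mem_sylow (R.subtype (le_sup_left : (R : Subgroup A) ≤ M))
    (hX.comap_subtype (K := M))
  have hmM : (m : A) ∈ (R : Subgroup A) ⊔ K := m.2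
  obtain ⟨r, hr, k, hk, hrk⟩ := Subgroup.mem_sup_of_normal_right.mp hmM
  refine ⟨k, hk, fun x hx => ?_⟩
  have h3 : (m : A) * x * (m : A)⁻¹ ∈ (R : Subgroup A) := hm ⟨x, hle hx⟩ hx
  rw [← hrk] at h3
  have := Subgroup.mul_mem _ (Subgroup.mul_mem _ (Subgroup.inv_mem _ hr) h3) hr
  simpa [mul_assoc] using this

variable {Ω : Type*} [Group Ω] {S : Subgroup Ω} {F : FusionSystem S} {T P Q R : Subgroup Ω}

/-- A strongly closed subgroup is normalized by `S`. -/
theorem conj_mem_of_stronglyClosed (hT : F.StronglyClosed T) {s t : Ω} (hs : s ∈ S) (ht : t ∈ T) :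
    s * t * s⁻¹ ∈ T :=
  hT.2 T le_rfl _ (F.conj_mem hT.1 hs) ⟨t, ht⟩

/-- `S` normalizes a strongly closed subgroup. -/
theorem le_normalizer_of_stronglyClosed (hT : F.StronglyClosed T) :
    S ≤ Subgroup.normalizer (T : Set Ω) := by
  intro s hs
  rw [Subgroup.mem_normalizer_iff]
  refine fun t => ⟨conj_mem_of_stronglyClosed hT hs, fun h => ?_⟩
  have := conj_mem_of_stronglyClosed hT (S.inv_mem hs) h
  simpa [mul_assoc] using this

/-- A map of the system carries elements of a strongly closed subgroup into it. -/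
theorem apply_mem_of_stronglyClosed (hT : F.StronglyClosed T) {φ : P →* Ω} (hφ : φ ∈ F.Hom P)
    {x : P} (hx : (x : Ω) ∈ T) : φ x ∈ T := by
  have h := hT.2 (P ⊓ T) inf_le_right _ (CfsgLib.Fusion.restrict_mem hφ inf_le_left) ⟨x, x.2, hx⟩
  exact h

/-- Elements of `P ⊔ T` are products, for `P` in `S` and `T` strongly closed. -/
theorem mem_sup_stronglyClosed (hP : P ≤ S) (hT : F.StronglyClosed T) {z : Ω} :
    z ∈ P ⊔ T ↔ ∃ x ∈ P, ∃ t ∈ T, x * t = z := by
  rw [← SetLike.mem_coe, Subgroup.coe_mul_of_left_le_normalizer_right P T (hP.trans (le_normalizer_of_stronglyClosed hT)),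
    Set.mem_mul]
  rfl

/-- The homomorphism `φ` on `P` lifts modulo `T` to `P ⊔ T`. -/
def HasLift (F : FusionSystem S) (T : Subgroup Ω) (φ : P →* Ω) : Prop :=
  ∃ ψ ∈ F.Hom (P ⊔ T), ∀ x : P, (φ x)⁻¹ * ψ (Subgroup.inclusion le_sup_left x) ∈ T

theorem hasLift_of_le {φ : P →* Ω} (hφ : φ ∈ F.Hom P) (h : T ≤ P) : HasLift F T φ := by
  refine ⟨restrictHom φ (sup_le le_rfl h), CfsgLib.Fusion.restrict_mem hφ _, fun x => ?_⟩
  simp [restrictHom, Subgroup.inclusion]

theorem HasLift.restrict {φ : P →* Ω} (h : HasLift F T φ) (hR : R ≤ P) :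
    HasLift F T (restrictHom φ hR) := by
  obtain ⟨ψ, hψ, hx⟩ := h
  exact ⟨restrictHom ψ (sup_le_sup_right hR T), CfsgLib.Fusion.restrict_mem hψ _,
    fun x => hx ⟨x, hR x.2⟩⟩

theorem HasLift.congr {φ φ' : P →* Ω} (h : HasLift F T φ) (e : ∀ x, φ' x = φ x) :
    HasLift F T φ' := (MonoidHom.ext e : φ' = φ) ▸ h

theorem hasLift_of_congr_id (hP : P ≤ S) (hT : F.StronglyClosed T) {φ : P →* Ω}
    (h : ∀ x : P, (φ x)⁻¹ * (x : Ω) ∈ T) : HasLift F T φ :=
  ⟨(P ⊔ T).subtype, subtype_mem (sup_le hP hT.1), h⟩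

theorem HasLift.trans (hT : F.StronglyClosed T) {e : P ≃* Q} (he : IsIso F e) {φ : Q →* Ω}
    (hφ : φ ∈ F.Hom Q)
    (h₁ : HasLift F T (Q.subtype.comp e.toMonoidHom)) (h₂ : HasLift F T φ) :
    HasLift F T (φ.comp e.toMonoidHom) := by
  obtain ⟨ψ₁, hψ₁, hx₁⟩ := h₁
  obtain ⟨ψ₂, hψ₂, hx₂⟩ := h₂
  have hin : ∀ x : P, ψ₁ (Subgroup.inclusion le_sup_left x) ∈ Q ⊔ T := fun x => by
    have : ψ₁ (Subgroup.inclusion le_sup_left x) = (e x : Ω) *
        ((e x : Ω)⁻¹ * ψ₁ (Subgroup.inclusion le_sup_left x)) := by simp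
    rw [this]
    exact Subgroup.mul_mem _ (Subgroup.mem_sup_left (e x).2) (Subgroup.mem_sup_right (hx₁ x))
  have hmem : ∀ z, ψ₁ z ∈ Q ⊔ T := by
    rintro ⟨z, hz⟩
    obtain ⟨x, hx, t, ht, rfl⟩ := (mem_sup_stronglyClosed he.le_left hT).1 hz
    have hm : ψ₁ ⟨x * t, hz⟩ = ψ₁ ⟨x, Subgroup.mem_sup_left hx⟩ * ψ₁ ⟨t, Subgroup.mem_sup_right ht⟩ := by
      rw [← map_mul]
      rfl
    rw [hm]
    exact Subgroup.mul_mem _ (hin ⟨x, hx⟩)
      (Subgroup.mem_sup_right (apply_mem_of_stronglyClosed hT hψ₁ ht))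
  refine ⟨_, F.comp_mem hψ₁ hψ₂ hmem, fun x => ?_⟩
  have hu := hx₁ x
  have hsplit : ψ₂ ⟨ψ₁ (Subgroup.inclusion le_sup_left x), hmem _⟩ =
      ψ₂ (Subgroup.inclusion le_sup_left (e x)) * ψ₂ ⟨_, Subgroup.mem_sup_right hu⟩ := by
    rw [← map_mul]
    exact congrArg ψ₂ (Subtype.ext (by simp))
  show (φ (e x))⁻¹ * ψ₂ ⟨ψ₁ (Subgroup.inclusion le_sup_left x), hmem _⟩ ∈ T
  rw [hsplit, ← mul_assoc]
  exact Subgroup.mul_mem _ (hx₂ (e x)) (apply_mem_of_stronglyClosed hT hψ₂ hu)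

theorem HasLift.symm [Finite S] (hT : F.StronglyClosed T) {e : P ≃* Q} (he : IsIso F e)
    (h : HasLift F T (Q.subtype.comp e.toMonoidHom)) :
    HasLift F T (P.subtype.comp e.symm.toMonoidHom) := by
  obtain ⟨ψ, hψ, hx⟩ := h
  have hle : Q ⊔ T ≤ ψ.range := by
    have hTle : T ≤ ψ.range := fun y hy => by
      obtain ⟨t, -, hty⟩ := exists_eq_of_stronglyClosed F hT hψ le_sup_right hy
      exact ⟨t, hty⟩
    refine sup_le (fun y hy => ?_) hTle
    have h1 := hx (e.symm ⟨y, hy⟩)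
    simp only [MonoidHom.coe_comp, MulEquiv.coe_toMonoidHom, Subgroup.coe_subtype,
      Function.comp_apply, MulEquiv.apply_symm_apply] at h1
    have h2 := Subgroup.mul_mem _ (⟨_, rfl⟩ : ψ (Subgroup.inclusion le_sup_left (e.symm ⟨y, hy⟩)) ∈ ψ.range)
      (Subgroup.inv_mem _ (hTle h1))
    simpa using h2
  obtain ⟨χ, hχ, hinv⟩ := F.inv_mem hψ
  refine ⟨restrictHom χ hle, CfsgLib.Fusion.restrict_mem hχ hle, fun y => ?_⟩
  obtain ⟨x, rfl⟩ := e.surjective y
  have hu : (e x : Ω)⁻¹ * ψ (Subgroup.inclusion le_sup_left x) ∈ T := hx x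
  have huR : (e x : Ω)⁻¹ * ψ (Subgroup.inclusion le_sup_left x) ∈ ψ.range :=
    hle (Subgroup.mem_sup_right hu)
  have hy : (⟨(e x : Ω), hle (Subgroup.mem_sup_left (e x).2)⟩ : ψ.range) =
      ⟨ψ (Subgroup.inclusion le_sup_left x), _, rfl⟩ * ⟨_, huR⟩⁻¹ := Subtype.ext (by simp)
  show ((e.symm (e x) : P) : Ω)⁻¹ * χ ⟨(e x : Ω), _⟩ ∈ T
  rw [MulEquiv.symm_apply_apply, hy, map_mul, hinv, map_inv, ← mul_assoc]
  refine Subgroup.mul_mem _ ?_ (Subgroup.inv_mem _ (apply_mem_of_stronglyClosed hT hχ hu))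
  simp [Subgroup.inclusion]

/-- The automorphisms of `Q` in the system that are trivial modulo `T`. -/
def kerModT (F : FusionSystem S) (T : Subgroup Ω) (hT : F.StronglyClosed T) (hQ : Q ≤ S) :
    Subgroup (F.autGroup Q) where
  carrier := {a | ∀ x : Q, ((a : MulAut Q) x : Ω)⁻¹ * x ∈ T}
  one_mem' x := by simp
  mul_mem' {a b} ha hb x := by
    have h1 := ha ((b : MulAut Q) x)
    have h := Subgroup.mul_mem _ h1 (hb x)
    simpa [mul_assoc] using h
  inv_mem' {a} ha x := by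
    have h := ha ((a : MulAut Q)⁻¹ x)
    rw [MulAut.apply_inv_self] at h
    have h2 := Subgroup.inv_mem _ h
    simp only [mul_inv_rev, inv_inv] at h2
    show (((a : MulAut Q)⁻¹ x : Q) : Ω)⁻¹ * x ∈ T
    exact h2

theorem kerModT_normal (hT : F.StronglyClosed T) (hQ : Q ≤ S) :
    (kerModT F T hT hQ).Normal := by
  refine ⟨fun a ha b x => ?_⟩
  obtain ⟨y, rfl⟩ := (b : MulAut Q).surjective x
  have h := ha y
  have hb : IsIso F ((b : MulAut Q) : Q ≃* Q) := (mem_autGroup_iff hQ).1 b.2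
  have h2 := apply_mem_of_stronglyClosed hT hb (x := ((a : MulAut Q) y)⁻¹ * y) h
  show (((b : MulAut Q) * (a : MulAut Q) * (b : MulAut Q)⁻¹) ((b : MulAut Q) y) : Ω)⁻¹ *
    ((b : MulAut Q) y : Ω) ∈ T
  rw [MulAut.mul_apply, MulAut.mul_apply, MulAut.inv_apply_self]
  simpa [map_mul, map_inv] using h2

/-- Every map of a saturated system lifts modulo a strongly closed subgroup. -/
theorem hasLift [Finite S] {p : ℕ} [Fact p.Prime] (hS : IsPGroup p S) (hF : F.IsSaturated p)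
    (hT : F.StronglyClosed T) {φ : P →* Ω} (hφ : φ ∈ F.Hom P) : HasLift F T φ := by
  obtain ⟨n, hn⟩ : ∃ n, n = Nat.card S - Nat.card P := ⟨_, rfl⟩
  induction n using Nat.strong_induction_on generalizing P with
  | _ n ih =>
  by_cases hTP : T ≤ P
  · exact hasLift_of_le hφ hTP
  have hPS : P ≤ S := le_left hφ
  have hlt : P < S := lt_of_le_of_ne hPS fun h => hTP (h ▸ hT.1)
  have big : ∀ {R : Subgroup Ω} {ψ : R →* Ω}, ψ ∈ F.Hom R → Nat.card P < Nat.card R →
      HasLift F T ψ := by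
    intro R ψ hψ hlt
    haveI := finite_of_le hPS
    have := Subgroup.card_le_of_le (le_left hψ)
    exact ih _ (by omega) hψ rfl
  have hgrow : ∀ {Q R : Subgroup Ω}, Q < R → R ≤ S → Nat.card Q = Nat.card P →
      Nat.card P < Nat.card R := by
    intro Q R h hRS hc
    haveI := finite_of_le hRS
    rw [← hc]
    by_contra hcon
    exact h.ne (Subgroup.eq_of_le_of_card_ge h.le (not_lt.1 hcon))
  obtain ⟨P', hr⟩ : ∃ P', φ.range = P' := ⟨_, rfl⟩
  obtain ⟨f, hf, hfφ⟩ := exists_iso hφ hr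
  obtain ⟨Q, hPQ, hQn⟩ := exists_fullyNormalized (F := F) hPS
  obtain ⟨hQa, hQr⟩ := automized_receptive hS hF hQn
  have hP'Q : F.IsConj P' Q := isConj_trans (isConj_symm hf.isConj) hPQ
  -- normalizer maps
  have key : ∀ {R : Subgroup Ω}, F.IsConj R Q → Nat.card R = Nat.card P →
      ∃ e : R ≃* Q, IsIso F e ∧ HasLift F T (Q.subtype.comp e.toMonoidHom) := by
    intro R hR hc
    obtain ⟨χ, hχ, -, himg⟩ := exists_map_normalizerIn hS hQa hQr hR
    have hRS : R ≤ S := le_of_isConj_left hR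
    obtain ⟨e, he, hev⟩ := exists_iso (CfsgLib.Fusion.restrict_mem hχ (le_normalizerIn hRS))
      ((range_restrictHom χ _).trans himg)
    have hRlt : R < S := lt_of_le_of_ne hRS fun h =>
      (hgrow hlt le_rfl rfl).ne' (by rw [← h, hc])
    have hN := hgrow (CfsgLib.Fusion.lt_normalizerIn hS hRlt) (normalizerIn_le S R) hc
    exact ⟨e, he, ((big hχ hN).restrict (le_normalizerIn hRS)).congr fun x => hev x⟩
  obtain ⟨e, he, hle⟩ := key hPQ rfl
  obtain ⟨e', he', hle'⟩ := key hP'Q hf.card_eq.symm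
  -- the automorphism of Q
  set β : MulAut Q := e.symm.trans (f.trans e') with hβdef
  have hβ : IsIso F (β : Q ≃* Q) := he.symm.trans (hf.trans he')
  have hQS : Q ≤ S := hQn.1
  have hβl : HasLift F T (Q.subtype.comp β.toMonoidHom) := by
    haveI := finite_of_le hQS
    obtain ⟨R, hR⟩ := hQa.2
    set K := kerModT F T hT hQS with hK
    haveI := kerModT_normal hT hQS
    set b : F.autGroup Q := ⟨β, (mem_autGroup_iff hQS).2 hβ⟩ with hb
    set X := ((R : Subgroup (F.autGroup Q)) ⊓ K).map (MulAut.conj b).toMonoidHom with hX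
    have hXK : X ≤ (R : Subgroup (F.autGroup Q)) ⊔ K := by
      rintro _ ⟨a, ha, rfl⟩
      exact Subgroup.mem_sup_right ((inferInstance : K.Normal).conj_mem a ha.2 b)
    obtain ⟨k, hk, hkX⟩ := exists_mem_normal_conj_le R K
      ((R.isPGroup'.to_le inf_le_left).map _ : IsPGroup p X) hXK
    have hk' : IsIso F ((k : MulAut Q) : Q ≃* Q) := (mem_autGroup_iff hQS).1 k.2
    set β' : MulAut Q := (k : MulAut Q) * β with hβ'
    have hβ'I : IsIso F (β' : Q ≃* Q) := hβ.trans hk'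
    set M := Q ⊔ (T ⊓ Subgroup.normalizer (Q : Set Ω)) with hM
    have hMS : M ≤ S := sup_le hQS (inf_le_left.trans hT.1)
    have hQM : Q < M := by
      refine lt_of_le_of_ne le_sup_left fun heq => ?_
      have hQT : Q < Q ⊔ T := lt_of_le_of_ne le_sup_left fun h => hTP ?_
      · haveI : Finite ↥(Q ⊔ T) := finite_of_le (sup_le hQS hT.1)
        obtain ⟨g, hg, hgn⟩ := SetLike.exists_of_lt
          (CfsgLib.Fusion.lt_normalizerIn (hS.to_le (sup_le hQS hT.1) : IsPGroup p ↥(Q ⊔ T)) hQT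
            (S := Q ⊔ T))
        obtain ⟨q, hq, t, ht, rfl⟩ := (mem_sup_stronglyClosed hQS hT).1 hg.1
        refine hgn (Subgroup.mul_mem _ hq (heq.symm ▸ Subgroup.mem_sup_right (Subgroup.mem_inf.2 ⟨ht, ?_⟩)))
        have := Subgroup.mul_mem _ (Subgroup.inv_mem _ (Subgroup.le_normalizer hq)) hg.2
        simpa using this
      · -- `T ≤ Q` would give `T ≤ P`
        have hTQ : T ≤ Q := h.symm ▸ le_sup_right
        intro t ht
        obtain ⟨u, hu, hut⟩ := exists_eq_of_stronglyClosed F hT he.symm hTQ ht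
        rw [← hut]
        exact (e.symm u).2
    have hext : M ≤ extender S Q (Q.subtype.comp β'.toMonoidHom) := by
      refine sup_le (le_extender hQS fun x => hQS (β' x).2) fun g hg => ?_
      have hgN : g ∈ normalizerIn S Q := ⟨hT.1 hg.1, hg.2⟩
      refine mem_extender_of_congr hgN (α := Q.normalizerMonoidHom ⟨g, hg.2⟩) (fun _ => rfl) ?_
      rw [congr_self_eq]
      have hcg : Q.normalizerMonoidHom ⟨g, hg.2⟩ ∈ autInducedBy S Q :=
        mem_autInducedBy_iff.2 ⟨g, hgN.1, hg.2, fun _ => rfl⟩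
      set a : F.autGroup Q := ⟨_, autInducedBy_le_autGroup hQS hcg⟩ with ha
      have haR : a ∈ (R : Subgroup (F.autGroup Q)) := by rw [hR]; exact hcg
      have haK : a ∈ K := fun x => by
        show (g * (x : Ω) * g⁻¹)⁻¹ * x ∈ T
        have h1 := conj_mem_of_stronglyClosed hT (S.inv_mem (hQS x.2)) (T.inv_mem hg.1)
        have h2 := T.mul_mem hg.1 h1
        simpa [mul_assoc] using h2
      have := hkX _ ⟨a, ⟨haR, haK⟩, rfl⟩
      rw [hR] at this
      have h4 : β' * Q.normalizerMonoidHom ⟨g, hg.2⟩ * β'⁻¹ =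
          ((k * (b * a * b⁻¹) * k⁻¹ : F.autGroup Q) : MulAut Q) := by
        simp [hβ', hb, ha, mul_assoc]
      rw [h4]
      exact this
    obtain ⟨ψ, hψ, hψv⟩ := exists_extension hQr hβ'I hext
    have hMcard := hgrow hQM hMS (card_eq_of_isConj hPQ).symm
    have hl : HasLift F T (Q.subtype.comp β'.toMonoidHom) :=
      ((big hψ hMcard).restrict le_sup_left).congr fun x => (hψv x (le_sup_left (b := T ⊓ _) x.2)).symm
    have hkl : HasLift F T (Q.subtype.comp ((k⁻¹ : F.autGroup Q) : MulAut Q).toMonoidHom) :=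
      hasLift_of_congr_id hQS hT (fun x => (K.inv_mem hk) x)
    refine (HasLift.trans hT hβ'I ((mem_autGroup_iff hQS).1 (k⁻¹ : F.autGroup Q).2) hl hkl).congr
      fun x => ?_
    simp [hβ']
  -- compose
  have h1 : HasLift F T ((Q.subtype.comp β.toMonoidHom).comp e.toMonoidHom) :=
    HasLift.trans hT he hβ hle hβl
  have h2 := HasLift.symm hT he' hle'
  have hee : IsIso F (e.trans (β : Q ≃* Q)) := he.trans hβ
  have h3 := HasLift.trans hT hee he'.symm (h1.congr fun x => rfl) h2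
  refine h3.congr fun x => ?_
  rw [← hfφ x]
  simp [hβdef]

/-- An induced homomorphism exists along a homomorphism out of `S`. -/
theorem exists_induced {Ω' : Type*} [Group Ω'] {P' : Subgroup Ω'} {θ : S →* Ω'}
    {ψ : R →* Ω} (hRS : R ≤ S) (hψS : ∀ x, ψ x ∈ S) (hR : ∀ x : R, θ ⟨x, hRS x.2⟩ ∈ P')
    (hsurj : ∀ y : P', ∃ x : R, θ ⟨x, hRS x.2⟩ = y)
    (hker : ∀ x : R, θ ⟨x, hRS x.2⟩ = 1 → θ ⟨ψ x, hψS x⟩ = 1) :
    ∃ φ' : P' →* Ω', InducedAlong θ ψ φ' := by
  let f : R →* P' := (θ.comp (Subgroup.inclusion hRS)).codRestrict P' hR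
  have hf : Function.Surjective f := fun y => by
    obtain ⟨x, hx⟩ := hsurj y
    exact ⟨x, Subtype.ext hx⟩
  let g : R →* Ω' := θ.comp (ψ.codRestrict S hψS)
  have hk : f.ker ≤ g.ker := fun x hx => hker x (congrArg Subtype.val (MonoidHom.mem_ker.1 hx))
  exact ⟨f.liftOfSurjective hf ⟨g, hk⟩, hRS, hψS, hR, fun x =>
    f.liftOfRightInverse_comp_apply (Function.surjInv hf) (Function.rightInverse_surjInv hf) ⟨g, hk⟩ x⟩

/-- The projection onto the factor system is a surjective morphism of fusion systems. -/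
theorem isSurjectiveMorphism_of_isFactorSystem [Finite S] {p : ℕ} [Fact p.Prime]
    (hS : IsPGroup p S) (hF : F.IsSaturated p) {S₀ : Subgroup Ω} (hS₀ : F.StronglyClosed S₀)
    {Ω' : Type*} [Group Ω'] {S' : Subgroup Ω'} {θ : S →* Ω'} {E : FusionSystem S'}
    (hE : F.IsFactorSystem S₀ θ E) : F.IsSurjectiveMorphism E θ := by
  obtain ⟨-, hker, hrange, hHom⟩ := hE
  have hmem : ∀ s : S, θ s ∈ S' := fun s => hrange ▸ ⟨s, rfl⟩
  refine ⟨⟨hmem, fun P φ hφ => ?_⟩, hrange, fun P' hP' φ' hφ' => ((hHom P' φ').1 hφ').2⟩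
  have hPS : P ≤ S := le_left hφ
  obtain ⟨ψ, hψ, hψc⟩ := hasLift hS hF hS₀ hφ
  have hval : ∀ (x : Ω) (hxS : x ∈ S), x ∈ S₀ → θ ⟨x, hxS⟩ = 1 := fun x hxS h => (hker _).2 h
  have hpre : preimageAlong θ (imageAlong θ P) ≤ P ⊔ S₀ := by
    intro z hz
    obtain ⟨hzS, w, hw, hwz⟩ := mem_preimageAlong.1 hz
    have h0 : (w : Ω)⁻¹ * z ∈ S₀ := (hker (w⁻¹ * ⟨z, hzS⟩)).1 (by
      rw [map_mul, map_inv, hwz, inv_mul_cancel])
    have := Subgroup.mul_mem _ (Subgroup.mem_sup_left (T := S₀) (Subgroup.mem_subgroupOf.1 hw))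
      (Subgroup.mem_sup_right h0)
    simpa using this
  set χ := restrictHom ψ hpre
  have hχ : χ ∈ F.Hom _ := CfsgLib.Fusion.restrict_mem hψ hpre
  obtain ⟨φ', hind⟩ := exists_induced (P' := imageAlong θ P) (preimageAlong_le θ _)
    (apply_mem hχ) (fun x => (mem_preimageAlong.1 x.2).2)
    (fun y => by
      obtain ⟨w, hw, hwy⟩ := y.2
      exact ⟨⟨w, mem_preimageAlong.2 ⟨w.2, w, hw, rfl⟩⟩, hwy⟩)
    (fun x hx => hval _ _ (apply_mem_of_stronglyClosed hS₀ hχ ((hker _).1 hx)))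
  refine ⟨φ', (hHom _ φ').2 ⟨fun y hy => ?_, χ, hχ, hind⟩, ?_⟩
  · obtain ⟨w, -, rfl⟩ := hy
    exact hmem w
  · obtain ⟨hA₁, hA₂, hA₃, hv⟩ := hind
    refine ⟨hPS, apply_mem hφ, fun x => ⟨⟨x, hPS x.2⟩, x.2, rfl⟩, fun x => ?_⟩
    have hx : (x : Ω) ∈ preimageAlong θ (imageAlong θ P) :=
      mem_preimageAlong.2 ⟨hPS x.2, ⟨x, hPS x.2⟩, x.2, rfl⟩
    refine (hv ⟨x, hx⟩).trans ?_
    have h0 := hval _ (S.mul_mem (S.inv_mem (apply_mem hφ x)) (apply_mem hψ _)) (hψc x)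
    have h1 : θ (⟨φ x, apply_mem hφ x⟩⁻¹ * ⟨ψ (Subgroup.inclusion le_sup_left x), apply_mem hψ _⟩) = 1 := h0
    rw [map_mul, map_inv, inv_mul_eq_one] at h1
    exact h1.symm

end CfsgLib.FusionFactor
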