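/-
The image of a saturated system under a surjective morphism, in particular a factor system modulo
a strongly closed subgroup, is saturated.
-/
import Cfsg.Agent.FusionFactor.Lift

set_option autoImplicit false

namespace CfsgLib.FusionFactor

open Cfsg Cfsg.FusionSystem CfsgLib.Fusion

variable {Ω : Type*} [Group Ω] {S : Subgroup Ω} {F : FusionSystem S}
variable {Ω' : Type*} [Group Ω'] {S' : Subgroup Ω'} {F' : FusionSystem S'} {α : S →* Ω'}

/-- The kernel of a morphism is strongly closed. -/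
theorem stronglyClosed_ker (hα : F.IsMorphism F' α) : F.StronglyClosed (α.ker.map S.subtype) := by
  refine ⟨Subgroup.map_subtype_le _, fun R hR φ hφ x => ?_⟩
  obtain ⟨φ', -, hP, hφS, hP', hind⟩ := hα.2 R φ hφ
  have hx : (⟨x, hP x.2⟩ : S) ∈ α.ker := by
    obtain ⟨y, hy, hyx⟩ := hR x.2
    have : y = ⟨x, hP x.2⟩ := Subtype.ext hyx
    exact this ▸ hy
  refine ⟨⟨φ x, hφS x⟩, ?_, rfl⟩
  show α ⟨φ x, hφS x⟩ = 1
  rw [← hind x]
  have h1 : (⟨α ⟨x, hP x.2⟩, hP' x⟩ : imageAlong α R) = 1 := Subtype.ext hx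
  rw [h1, map_one]

/-- The kernel lies in every preimage. -/
theorem ker_le_preimageAlong (α : S →* Ω') (P' : Subgroup Ω') :
    α.ker.map S.subtype ≤ preimageAlong α P' := by
  rintro _ ⟨s, hs, rfl⟩
  exact mem_preimageAlong.2 ⟨s.2, (MonoidHom.mem_ker.1 hs : α s = 1).symm ▸ one_mem P'⟩

/-- Every element of `S'` in the target has a preimage. -/
theorem exists_preimage (hrange : α.range = S') {P' : Subgroup Ω'} (hP' : P' ≤ S') (y : P') :
    ∃ x : preimageAlong α P', α ⟨x, preimageAlong_le α P' x.2⟩ = y := by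
  obtain ⟨s, hs⟩ : (y : Ω') ∈ α.range := hrange.symm ▸ hP' y.2
  exact ⟨⟨s, mem_preimageAlong.2 ⟨s.2, by rw [hs]; exact y.2⟩⟩, hs⟩

/-- The image of a saturated system under a surjective morphism is saturated. -/
theorem isSaturated_of_isSurjectiveMorphism [Finite S] {p : ℕ} [Fact p.Prime] (hS : IsPGroup p S)
    (hF : F.IsSaturated p) (hα : F.IsSurjectiveMorphism F' α) : F'.IsSaturated p := by
  obtain ⟨hmor, hrange, hsurj⟩ := hα
  have hK := stronglyClosed_ker hmor
  intro P' hP'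
  set P := preimageAlong α P' with hPdef
  have hPS : P ≤ S := preimageAlong_le α P'
  obtain ⟨Q, hPQ, hQn⟩ := exists_fullyNormalized (F := F) hPS
  obtain ⟨hQa, hQr⟩ := automized_receptive hS hF hQn
  have hQS : Q ≤ S := hQn.1
  set Q' := imageAlong α Q with hQ'def
  have hQ'S : Q' ≤ S' := by
    rintro _ ⟨w, -, rfl⟩
    exact hmor.1 w
  have hQ'mem : ∀ x : Q, α ⟨x, hQS x.2⟩ ∈ Q' := fun x => ⟨⟨x, hQS x.2⟩, x.2, rfl⟩
  have hKQ : α.ker.map S.subtype ≤ Q := by
    obtain ⟨e, he⟩ := isConj_iff.1 hPQ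
    intro y hy
    obtain ⟨x, -, hxy⟩ := exists_eq_of_stronglyClosed F hK he (ker_le_preimageAlong α P') hy
    exact hxy ▸ (e x).2
  have hpreQ : preimageAlong α Q' = Q := by
    refine le_antisymm (fun z hz => ?_) fun z hz => mem_preimageAlong.2 ⟨hQS hz, hQ'mem ⟨z, hz⟩⟩
    obtain ⟨hzS, w, hw, hwz⟩ := mem_preimageAlong.1 hz
    have h0 : (w : Ω)⁻¹ * z ∈ α.ker.map S.subtype :=
      ⟨w⁻¹ * ⟨z, hzS⟩, by rw [SetLike.mem_coe, MonoidHom.mem_ker, map_mul, map_inv, hwz, inv_mul_cancel],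
        rfl⟩
    have := Q.mul_mem (Subgroup.mem_subgroupOf.1 hw) (hKQ h0)
    simpa using this
  have hconj' : F'.IsConj P' Q' := by
    obtain ⟨φ, hφ, hr⟩ := hPQ
    obtain ⟨φ', hφ', h1, h2, h3, hind⟩ := hmor.2 P φ hφ
    have himg : imageAlong α P = P' := by
      refine le_antisymm ?_ fun y hy => ?_
      · rintro _ ⟨w, hw, rfl⟩
        exact (mem_preimageAlong.1 (Subgroup.mem_subgroupOf.1 hw)).2
      · obtain ⟨x, hx⟩ := exists_preimage hrange hP' ⟨y, hy⟩
        exact ⟨⟨x, hPS x.2⟩, x.2, hx⟩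
    have hφ'r : φ'.range = Q' := by
      ext y
      constructor
      · rintro ⟨⟨_, w, hw, rfl⟩, rfl⟩
        have := hind ⟨w, Subgroup.mem_subgroupOf.1 hw⟩
        rw [this]
        exact hQ'mem ⟨_, hr ▸ ⟨_, rfl⟩⟩
      · rintro ⟨w, hw, rfl⟩
        obtain ⟨x, hx⟩ : (w : Ω) ∈ φ.range := hr.symm ▸ Subgroup.mem_subgroupOf.1 hw
        exact ⟨⟨_, h3 x⟩, (hind x).trans (congrArg α (Subtype.ext hx))⟩
    have h := (⟨φ', hφ', hφ'r⟩ : F'.IsConj (imageAlong α P) Q')
    rwa [himg] at h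
  refine ⟨Q', hconj', ?_, ?_⟩
  all_goals haveI : Finite Q := finite_of_le hQS
  all_goals haveI : Finite ↥(F.autGroup Q) := inferInstance
  -- the homomorphism on automorphism groups
  all_goals
    have hind : ∀ a : F.autGroup Q, ∃ a' : MulAut Q', a' ∈ F'.autGroup Q' ∧
        ∀ x : Q, (a' ⟨_, hQ'mem x⟩ : Ω') = α ⟨((a : MulAut Q) x : Q), hQS ((a : MulAut Q) x).2⟩ := by
      intro a
      have ha : IsIso F ((a : MulAut Q) : Q ≃* Q) := (mem_autGroup_iff hQS).1 a.2
      obtain ⟨φ', hφ', h1, h2, h3, hv⟩ := hmor.2 Q _ ha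
      have hr : φ'.range = Q' := by
        ext y
        constructor
        · rintro ⟨⟨_, w, hw, rfl⟩, rfl⟩
          rw [hv ⟨w, Subgroup.mem_subgroupOf.1 hw⟩]
          exact hQ'mem _
        · rintro ⟨w, hw, rfl⟩
          obtain ⟨x, hx⟩ := (a : MulAut Q).surjective ⟨w, Subgroup.mem_subgroupOf.1 hw⟩
          refine ⟨⟨_, h3 x⟩, (hv x).trans (congrArg α (Subtype.ext ?_))⟩
          exact congrArg (fun z : Q => (z : Ω)) hx
      obtain ⟨e, he, hev⟩ := exists_iso hφ' hr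
      exact ⟨e, IsIso.mem_autGroup he, fun x => (hev _).trans (hv x)⟩
    choose π hπmem hπ using hind
    have hext : ∀ (b c : MulAut Q'), (∀ x : Q, b ⟨_, hQ'mem x⟩ = c ⟨_, hQ'mem x⟩) → b = c := by
      intro b c h
      ext ⟨y, hy⟩
      obtain ⟨w, hw, rfl⟩ := hy
      exact congrArg Subtype.val (h ⟨w, Subgroup.mem_subgroupOf.1 hw⟩)
    have hmul : ∀ a b, π (a * b) = π a * π b := by
      intro a b
      refine hext _ _ fun x => Subtype.ext ?_
      rw [hπ, MulAut.mul_apply]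
      have : (π b ⟨_, hQ'mem x⟩ : Q') = ⟨_, hQ'mem ((b : MulAut Q) x)⟩ := Subtype.ext (hπ b x)
      rw [this, hπ]
      rfl
    let f : F.autGroup Q →* F'.autGroup Q' :=
      MonoidHom.mk' (fun a => ⟨π a, hπmem a⟩) fun a b => Subtype.ext (hmul a b)
    have hf : Function.Surjective f := by
      intro a'
      have ha' : IsIso F' ((a' : MulAut Q') : Q' ≃* Q') := (mem_autGroup_iff hQ'S).1 a'.2
      obtain ⟨φ, hφ, h1, h2, h3, hv⟩ := hsurj Q' hQ'S _ ha'
      have hr : φ.range = Q := by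
        haveI := finite_of_le (range_le hφ)
        refine Subgroup.eq_of_le_of_card_ge ?_ ?_
        · rintro _ ⟨x, rfl⟩
          exact hpreQ ▸ mem_preimageAlong.2 ⟨h2 x, by rw [← hv x]; exact ((a' : MulAut Q') _).2⟩
        · rw [← imgHom_self, card_imgHom (F.injective_of_mem hφ) le_rfl, hpreQ]
      obtain ⟨e, he, hev⟩ := exists_iso hφ hr
      set g : MulAut Q := (MulEquiv.subgroupCongr hpreQ.symm).trans e with hg
      have hgI : IsIso F (g : Q ≃* Q) := mem_of_eq hpreQ.symm hφ fun x hx => hev _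
      refine ⟨⟨g, IsIso.mem_autGroup hgI⟩, Subtype.ext (hext _ _ fun x => Subtype.ext ?_)⟩
      show (π _ ⟨_, hQ'mem x⟩ : Ω') = _
      rw [hπ]
      refine Eq.trans ?_ (hv ⟨x, hpreQ.symm ▸ x.2⟩).symm
      exact congrArg α (Subtype.ext (hev _))
    obtain ⟨R, hR⟩ := hQa.2
  · -- fully automized
    refine ⟨hQ'S, R.mapSurjective hf, ?_⟩
    rw [Sylow.coe_mapSurjective]
    ext a'
    rw [Subgroup.mem_subgroupOf]
    constructor
    · rintro ⟨a, ha, rfl⟩
      rw [SetLike.mem_coe, hR] at ha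
      obtain ⟨g, hgS, -, hg⟩ := mem_autInducedBy_iff.1 (Subgroup.mem_subgroupOf.1 ha)
      refine Subgroup.subset_closure ⟨α ⟨g, hgS⟩, hmor.1 _, ?_⟩
      rintro ⟨_, w, hw, rfl⟩
      show (π a ⟨_, _⟩ : Ω') = _
      rw [hπ a ⟨w, Subgroup.mem_subgroupOf.1 hw⟩, ← map_inv, ← map_mul, ← map_mul]
      exact congrArg α (Subtype.ext (hg ⟨w, Subgroup.mem_subgroupOf.1 hw⟩))
    · intro ha'
      obtain ⟨g', hg'S, hg'N, hg'⟩ := mem_autInducedBy_iff.1 ha'
      obtain ⟨s, rfl⟩ : g' ∈ α.range := hrange.symm ▸ hg'S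
      have hsN : (s : Ω) ∈ Subgroup.normalizer (Q : Set Ω) := by
        rw [Subgroup.mem_normalizer_iff]
        intro z
        constructor
        · intro hz
          rw [← hpreQ]
          refine mem_preimageAlong.2 ⟨S.mul_mem (S.mul_mem s.2 (hQS hz)) (S.inv_mem s.2), ?_⟩
          have := (Subgroup.mem_normalizer_iff.1 hg'N _).1 (hQ'mem ⟨z, hz⟩)
          rw [← map_inv, ← map_mul, ← map_mul] at this
          exact this
        · intro hz
          have hzS : z ∈ S := by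
            have := S.mul_mem (S.mul_mem (S.inv_mem s.2) (hQS hz)) s.2
            simpa [mul_assoc] using this
          rw [← hpreQ]
          refine mem_preimageAlong.2 ⟨hzS, (Subgroup.mem_normalizer_iff.1 hg'N _).2 ?_⟩
          rw [← map_inv, ← map_mul, ← map_mul]
          exact hQ'mem ⟨_, hz⟩
      refine ⟨⟨Q.normalizerMonoidHom ⟨s, hsN⟩, autInducedBy_le_autGroup hQS
        (mem_autInducedBy_iff.2 ⟨s, s.2, hsN, fun _ => rfl⟩)⟩, ?_, ?_⟩
      · rw [SetLike.mem_coe, hR]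
        exact mem_autInducedBy_iff.2 ⟨s, s.2, hsN, fun _ => rfl⟩
      · refine Subtype.ext (hext _ _ fun x => Subtype.ext ?_)
        show (π _ ⟨_, hQ'mem x⟩ : Ω') = _
        rw [hπ, hg', ← map_inv, ← map_mul, ← map_mul]
        rfl
  · -- receptive
    refine ⟨hQ'S, fun P₁' φ' hφ' hr' => ?_⟩
    have hP₁'S : P₁' ≤ S' := le_left hφ'
    obtain ⟨φ, hφ, h1, h2, h3, hv⟩ := hsurj P₁' hP₁'S φ' hφ'
    have hr : φ.range = Q := by
      refine le_antisymm ?_ ?_
      · rintro _ ⟨x, rfl⟩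
        exact hpreQ ▸ mem_preimageAlong.2 ⟨h2 x, by rw [← hv x, ← hr']; exact ⟨_, rfl⟩⟩
      · intro y hy
        obtain ⟨y', hy'⟩ : α ⟨y, hQS hy⟩ ∈ φ'.range := hr'.symm ▸ hQ'mem ⟨y, hy⟩
        obtain ⟨x, hx⟩ := exists_preimage hrange hP₁'S y'
        have hx' : α ⟨φ x, h2 x⟩ = α ⟨y, hQS hy⟩ := by
          rw [← hv x, ← hy']
          exact congrArg φ' (Subtype.ext hx)
        have h0 : (φ x)⁻¹ * y ∈ α.ker.map S.subtype :=
          ⟨⟨φ x, h2 x⟩⁻¹ * ⟨y, hQS hy⟩,
            by rw [SetLike.mem_coe, MonoidHom.mem_ker, map_mul, map_inv, hx', inv_mul_cancel], rfl⟩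
        obtain ⟨u, -, hu⟩ := exists_eq_of_stronglyClosed F hK hφ (ker_le_preimageAlong α P₁') h0
        exact ⟨x * u, by rw [map_mul, hu, mul_inv_cancel_left]⟩
    obtain ⟨e, he, hev⟩ := exists_iso hφ hr
    set N := preimageAlong α (extender S' P₁' φ') with hN
    have hNS : N ≤ S := preimageAlong_le α _
    have hnorm : ∀ g ∈ N, g ∈ Subgroup.normalizer ((preimageAlong α P₁') : Set Ω) := by
      intro g hg
      obtain ⟨hgS, hgE⟩ := mem_preimageAlong.1 hg
      have hgN := (mem_extender_iff.1 hgE).2.1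
      rw [Subgroup.mem_normalizer_iff]
      intro z
      constructor
      · intro hz
        obtain ⟨hzS, hz'⟩ := mem_preimageAlong.1 hz
        refine mem_preimageAlong.2 ⟨S.mul_mem (S.mul_mem hgS hzS) (S.inv_mem hgS), ?_⟩
        have := (Subgroup.mem_normalizer_iff.1 hgN _).1 hz'
        rw [← map_inv, ← map_mul, ← map_mul] at this
        exact this
      · intro hz
        obtain ⟨hzS, hz'⟩ := mem_preimageAlong.1 hz
        have hzS' : z ∈ S := by
          have := S.mul_mem (S.mul_mem (S.inv_mem hgS) hzS) hgS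
          simpa [mul_assoc] using this
        refine mem_preimageAlong.2 ⟨hzS', (Subgroup.mem_normalizer_iff.1 hgN _).2 ?_⟩
        rw [← map_inv, ← map_mul, ← map_mul]
        exact hz'
    let c : N →* MulAut Q := (MulAut.congr e).toMonoidHom.comp
      ((preimageAlong α P₁').normalizerMonoidHom.comp (Subgroup.inclusion hnorm))
    have hcF : ∀ g, c g ∈ F.autGroup Q := fun g => congr_mem_autGroup he
      (autInducedBy_le_autGroup he.le_left
        (mem_autInducedBy_iff.2 ⟨g, hNS g.2, hnorm g g.2, fun _ => rfl⟩))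
    let c' : N →* F.autGroup Q := c.codRestrict _ hcF
    haveI hkn : f.ker.Normal := MonoidHom.normal_ker f
    have hXle : c'.range ≤ (R : Subgroup (F.autGroup Q)) ⊔ f.ker := by
      rintro _ ⟨g, rfl⟩
      obtain ⟨hgS, hgE⟩ := mem_preimageAlong.1 g.2
      obtain ⟨-, hgN, h', hh'S, hh'⟩ := mem_extender_iff.1 hgE
      have hmemR : ((f (c' g) : F'.autGroup Q') : MulAut Q') ∈ autInducedBy S' Q' := by
        refine Subgroup.subset_closure ⟨h', hh'S, ?_⟩
        rintro ⟨_, w, hw, rfl⟩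
        obtain ⟨x, hx⟩ := e.surjective ⟨w, Subgroup.mem_subgroupOf.1 hw⟩
        have hw' : (w : Ω) = φ x := by rw [← hev x, hx]
        show (π (c' g) ⟨_, _⟩ : Ω') = _
        rw [hπ (c' g) ⟨w, Subgroup.mem_subgroupOf.1 hw⟩]
        have hax : α w = α ⟨φ x, h2 x⟩ := congrArg α (Subtype.ext hw')
        show α ⟨((c' g : MulAut Q) ⟨w, Subgroup.mem_subgroupOf.1 hw⟩ : Q), _⟩ = h' * α w * h'⁻¹
        rw [hax, ← hv x]
        have hgx : α ⟨g, hgS⟩ * (α ⟨x, h1 x.2⟩) * (α ⟨g, hgS⟩)⁻¹ ∈ P₁' :=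
          (Subgroup.mem_normalizer_iff.1 hgN _).1 (h3 x)
        have hh := hh' ⟨_, h3 x⟩ hgx
        rw [← hh]
        have hgxP : (g : Ω) * x * (g : Ω)⁻¹ ∈ (preimageAlong α P₁') :=
          (Subgroup.mem_normalizer_iff.1 (hnorm g g.2) x).1 x.2
        have hv2 := hv ⟨_, hgxP⟩
        refine Eq.trans ?_ (Eq.trans hv2.symm (congrArg φ' (Subtype.ext ?_)))
        · refine congrArg α (Subtype.ext ?_)
          show (c g ⟨w, _⟩ : Ω) = φ ⟨_, hgxP⟩
          rw [← hx, ← hev]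
          show (MulAut.congr e _ (e x) : Ω) = _
          rw [congr_apply]
          rfl
        · show α ⟨(g : Ω) * x * (g : Ω)⁻¹, _⟩ = α ⟨g, hgS⟩ * α ⟨x, h1 x.2⟩ * (α ⟨g, hgS⟩)⁻¹
          rw [← map_inv, ← map_mul, ← map_mul]
          rfl
      obtain ⟨g', hg'S, hg'N, hg'⟩ := mem_autInducedBy_iff.1 hmemR
      obtain ⟨s, rfl⟩ : g' ∈ α.range := hrange.symm ▸ hg'S
      have hsN : (s : Ω) ∈ Subgroup.normalizer (Q : Set Ω) := by
        rw [Subgroup.mem_normalizer_iff]
        intro z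
        constructor
        · intro hz
          rw [← hpreQ]
          refine mem_preimageAlong.2 ⟨S.mul_mem (S.mul_mem s.2 (hQS hz)) (S.inv_mem s.2), ?_⟩
          have := (Subgroup.mem_normalizer_iff.1 hg'N _).1 (hQ'mem ⟨z, hz⟩)
          rw [← map_inv, ← map_mul, ← map_mul] at this
          exact this
        · intro hz
          have hzS : z ∈ S := by
            have := S.mul_mem (S.mul_mem (S.inv_mem s.2) (hQS hz)) s.2
            simpa [mul_assoc] using this
          rw [← hpreQ]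
          refine mem_preimageAlong.2 ⟨hzS, (Subgroup.mem_normalizer_iff.1 hg'N _).2 ?_⟩
          rw [← map_inv, ← map_mul, ← map_mul]
          exact hQ'mem ⟨_, hz⟩
      set r : F.autGroup Q := ⟨Q.normalizerMonoidHom ⟨s, hsN⟩, autInducedBy_le_autGroup hQS
        (mem_autInducedBy_iff.2 ⟨s, s.2, hsN, fun _ => rfl⟩)⟩ with hrdef
      have hrR : r ∈ (R : Subgroup (F.autGroup Q)) := by
        rw [hR]
        exact mem_autInducedBy_iff.2 ⟨s, s.2, hsN, fun _ => rfl⟩
      have hfr : f r = f (c' g) := by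
        refine Subtype.ext (hext _ _ fun x => Subtype.ext ?_)
        show (π r ⟨_, hQ'mem x⟩ : Ω') = _
        rw [hπ, hg', ← map_inv, ← map_mul, ← map_mul]
        rfl
      have hker : r⁻¹ * c' g ∈ f.ker := by
        rw [MonoidHom.mem_ker, map_mul, map_inv, hfr, inv_mul_cancel]
      have := Subgroup.mul_mem _ (Subgroup.mem_sup_left (T := f.ker) hrR)
        (Subgroup.mem_sup_right hker)
      simpa using this
    obtain ⟨k, hk, hkX⟩ := exists_mem_normal_conj_le R f.ker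
      ((IsPGroup.of_surjective (hS.to_le hNS) c'.rangeRestrict
        c'.rangeRestrict_surjective) : IsPGroup p c'.range) hXle
    have hkI : IsIso F ((k : MulAut Q) : Q ≃* Q) := (mem_autGroup_iff hQS).1 k.2
    have he' : IsIso F (e.trans (k : MulAut Q)) := he.trans hkI
    have hle : N ≤ extender S (preimageAlong α P₁') (Q.subtype.comp (e.trans (k : MulAut Q)).toMonoidHom) := by
      intro g hg
      refine mem_extender_of_congr ⟨hNS hg, hnorm g hg⟩
        (α := (preimageAlong α P₁').normalizerMonoidHom ⟨g, hnorm g hg⟩) (fun _ => rfl) ?_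
      rw [congr_trans, congr_self_eq]
      have := hkX _ ⟨⟨g, hg⟩, rfl⟩
      rw [hR] at this
      exact this
    obtain ⟨ψ, hψ, hψv⟩ := exists_extension hQr he' hle
    obtain ⟨ψ', hψ', j1, j2, j3, hψind⟩ := hmor.2 N ψ hψ
    have himg : imageAlong α N = extender S' P₁' φ' := by
      refine le_antisymm ?_ fun y hy => ?_
      · rintro _ ⟨w, hw, rfl⟩
        exact (mem_preimageAlong.1 (Subgroup.mem_subgroupOf.1 hw)).2
      · obtain ⟨x, hx⟩ := exists_preimage hrange
          ((extender_le_normalizerIn φ').trans inf_le_left) ⟨y, hy⟩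
        exact ⟨⟨x, hNS x.2⟩, x.2, hx⟩
    refine ⟨ψ'.comp (MulEquiv.subgroupCongr himg.symm).toMonoidHom,
      mem_of_eq himg.symm hψ' fun _ _ => rfl, fun y hP hy => ?_⟩
    obtain ⟨x, hx⟩ := exists_preimage hrange hP₁'S ⟨y, hP⟩
    have hxN : (x : Ω) ∈ N := mem_preimageAlong.2 ⟨preimageAlong_le α P₁' x.2, by
      rw [show (⟨(x : Ω), preimageAlong_le α P₁' x.2⟩ : S) = ⟨x, preimageAlong_le α P₁' x.2⟩ from rfl, hx]; exact hy⟩
    show ψ' _ = φ' ⟨y, hP⟩
    have hyx : (⟨y, himg.symm ▸ hy⟩ : imageAlong α N) = ⟨_, j3 ⟨x, hxN⟩⟩ := Subtype.ext hx.symm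
    refine Eq.trans (congrArg ψ' hyx) ((hψind ⟨x, hxN⟩).trans ?_)
    have hφx : φ' ⟨y, hP⟩ = α ⟨φ x, h2 x⟩ := by
      rw [← hv x]
      exact congrArg φ' (Subtype.ext hx.symm)
    rw [hφx]
    have hk1 := hπ k (e x)
    have hk0 : π k = 1 := congrArg Subtype.val (MonoidHom.mem_ker.1 hk)
    rw [hk0] at hk1
    refine Eq.trans (congrArg α (Subtype.ext (hψv x hxN))) (hk1.symm.trans ?_)
    exact congrArg α (Subtype.ext (hev x))

/-- A factor system of a saturated system modulo a strongly closed subgroup is saturated. -/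
theorem isSaturated_factor [Finite S] {p : ℕ} [Fact p.Prime] (hS : IsPGroup p S)
    (hF : F.IsSaturated p) {S₀ : Subgroup Ω} (hS₀ : F.StronglyClosed S₀)
    (hE : F.IsFactorSystem S₀ α F') : F'.IsSaturated p :=
  isSaturated_of_isSurjectiveMorphism hS hF (isSurjectiveMorphism_of_isFactorSystem hS hF hS₀ hE)

end CfsgLib.FusionFactor
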